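import Groth.Agent.Ref1X.BirConn
import Mathlib.RingTheory.IntegralClosure.GoingDown
import Mathlib.AlgebraicGeometry.Morphisms.Finite

/-! # Going down for finite dominant morphisms onto normal integral schemes -/

set_option autoImplicit false
set_option backward.isDefEq.respectTransparency false

universe u

open CategoryTheory AlgebraicGeometry

namespace Groth.Agent.GoDown

/-- Going down for finite surjective morphisms of integral schemes with normal target. -/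
theorem generalizingMap {W Z : Scheme.{u}} [IsIntegral W] [IsIntegral Z]
    (hZ : Pi1.IsNormalScheme Z) (ψ : W ⟶ Z) [IsFinite ψ] [Surjective ψ] :
    GeneralizingMap ψ.base := by
  intro w δ hδ
  obtain ⟨_, ⟨U, hU, rfl⟩, hwU, -⟩ :=
    Z.isBasis_affineOpens.exists_subset_of_mem_open (Set.mem_univ (ψ w)) isOpen_univ
  have hδU : δ ∈ U := hδ.mem_open U.2 hwU
  have hV : IsAffineOpen (ψ ⁻¹ᵁ U) := hU.preimage ψ
  haveI : Nonempty U := ⟨⟨_, hwU⟩⟩
  haveI : Nonempty (ψ ⁻¹ᵁ U : W.Opens) := ⟨⟨w, hwU⟩⟩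
  haveI : IsDomain Γ(Z, U) := IsIntegral.component_integral U
  haveI : IsDomain Γ(W, ψ ⁻¹ᵁ U) := IsIntegral.component_integral _
  haveI := Ref1X.isIntegrallyClosed_sections (Y := Z) hZ hU
  algebraize [(ψ.app U).hom]
  haveI : Module.Finite Γ(Z, U) Γ(W, ψ ⁻¹ᵁ U) := ψ.finite_app U hU
  have hinj : Function.Injective (algebraMap Γ(Z, U) Γ(W, ψ ⁻¹ᵁ U)) := by
    rw [injective_iff_map_eq_zero]
    intro a ha
    change (ψ.app U).hom a = 0 at ha
    have h0 : ψ ⁻¹ᵁ Z.basicOpen a = ⊥ := by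
      rw [Scheme.preimage_basicOpen, ha, Scheme.basicOpen_zero]
    rw [← basicOpen_eq_bot_iff, eq_bot_iff]
    intro z hz
    obtain ⟨y, rfl⟩ := ψ.surjective z
    exact h0.le (show y ∈ ψ ⁻¹ᵁ Z.basicOpen a from hz)
  haveI : FaithfulSMul Γ(Z, U) Γ(W, ψ ⁻¹ᵁ U) := (faithfulSMul_iff_algebraMap_injective _ _).mpr hinj
  haveI : Algebra.HasGoingDown Γ(Z, U) Γ(W, ψ ⁻¹ᵁ U) := inferInstance
  have hmap : ∀ Q : PrimeSpectrum Γ(W, ψ ⁻¹ᵁ U),
      ψ (hV.fromSpec Q) = hU.fromSpec (PrimeSpectrum.comap (ψ.app U).hom Q) := fun Q => by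
    have e := IsAffineOpen.SpecMap_appLE_fromSpec ψ hU hV le_rfl
    rw [← Scheme.Hom.comp_apply, ← e, Scheme.Hom.comp_apply, Scheme.Hom.app_eq_appLE]
    rfl
  obtain ⟨Q, hQ⟩ : w ∈ Set.range hV.fromSpec := by rw [hV.range_fromSpec]; exact hwU
  obtain ⟨p, hp⟩ : δ ∈ Set.range hU.fromSpec := by rw [hU.range_fromSpec]; exact hδU
  haveI := hU.isOpenImmersion_fromSpec
  subst hQ hp
  rw [hmap, hU.fromSpec.isOpenEmbedding.isInducing.specializes_iff,
    ← PrimeSpectrum.le_iff_specializes] at hδ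
  haveI : Q.asIdeal.LiesOver (PrimeSpectrum.comap (ψ.app U).hom Q).asIdeal := ⟨rfl⟩
  obtain ⟨P, hP, hPp, hPl⟩ :=
    Ideal.exists_ideal_le_liesOver_of_le (p := p.asIdeal)
      (q := (PrimeSpectrum.comap (ψ.app U).hom Q).asIdeal) Q.asIdeal hδ
  refine ⟨hV.fromSpec ⟨P, hPp⟩, ?_, ?_⟩
  · exact ((PrimeSpectrum.le_iff_specializes ⟨P, hPp⟩ Q).mp hP).map hV.fromSpec.continuous
  · exact (hmap ⟨P, hPp⟩).trans (congrArg hU.fromSpec (PrimeSpectrum.ext hPl.over.symm))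

/-- Generalisations in a fibre of a finite morphism are trivial. -/
theorem eq_of_specializes {W Z : Scheme.{u}} (ψ : W ⟶ Z) [IsFinite ψ] {a b : W} (h : a ⤳ b)
    (hab : ψ a = ψ b) : a = b := by
  obtain ⟨_, ⟨U, hU, rfl⟩, hbU, -⟩ :=
    Z.isBasis_affineOpens.exists_subset_of_mem_open (Set.mem_univ (ψ b)) isOpen_univ
  have hV : IsAffineOpen (ψ ⁻¹ᵁ U) := hU.preimage ψ
  have haU : a ∈ ψ ⁻¹ᵁ U := h.mem_open (ψ ⁻¹ᵁ U).2 hbU
  algebraize [(ψ.app U).hom]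
  haveI : Module.Finite Γ(Z, U) Γ(W, ψ ⁻¹ᵁ U) := ψ.finite_app U hU
  have hmap : ∀ Q : PrimeSpectrum Γ(W, ψ ⁻¹ᵁ U),
      ψ (hV.fromSpec Q) = hU.fromSpec (PrimeSpectrum.comap (ψ.app U).hom Q) := fun Q => by
    have e := IsAffineOpen.SpecMap_appLE_fromSpec ψ hU hV le_rfl
    rw [← Scheme.Hom.comp_apply, ← e, Scheme.Hom.comp_apply, Scheme.Hom.app_eq_appLE]
    rfl
  obtain ⟨P, rfl⟩ : a ∈ Set.range hV.fromSpec := by rw [hV.range_fromSpec]; exact haU
  obtain ⟨Q, rfl⟩ : b ∈ Set.range hV.fromSpec := by rw [hV.range_fromSpec]; exact hbU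
  haveI := hU.isOpenImmersion_fromSpec
  haveI := hV.isOpenImmersion_fromSpec
  rw [hmap, hmap] at hab
  have hc := congrArg PrimeSpectrum.asIdeal (hU.fromSpec.isOpenEmbedding.injective hab)
  rw [hV.fromSpec.isOpenEmbedding.isInducing.specializes_iff, ← PrimeSpectrum.le_iff_specializes] at h
  rcases (PrimeSpectrum.asIdeal_le_asIdeal _ _).mpr h |>.eq_or_lt with heq | hlt
  · rw [PrimeSpectrum.ext heq]
  · haveI : Algebra.IsIntegral Γ(Z, U) Γ(W, ψ ⁻¹ᵁ U) := inferInstance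
    have := Ideal.IsIntegral.comap_lt_comap (R := Γ(Z, U)) hlt
    exact absurd hc (ne_of_lt this)

end Groth.Agent.GoDown
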